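import Groth.Agent.H60.FreeAct.StabGrp
import Groth.Agent.Lib.GrpSch.UnramifiedFibre
import Groth.Agent.H63.GrpSmooth
import Groth.Agent.Lib.GrpSch.SmoothReduced
import Mathlib.AlgebraicGeometry.ZariskisMainTheorem
import Mathlib.AlgebraicGeometry.Morphisms.FlatMono
import Mathlib.AlgebraicGeometry.Morphisms.Etale
import Mathlib.AlgebraicGeometry.Morphisms.UniversallyInjective

/-!
Free actions: trivial stabilisers, monomorphic action map.
-/

set_option autoImplicit false
set_option linter.style.haveILetI false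

universe u

open CategoryTheory Limits MonoidalCategory CartesianMonoidalCategory MonObj AlgebraicGeometry
open Groth.Agent.H60.ProperAct Groth.Agent.Lib.GrpSch

namespace Groth.Agent.H60.FreeAct

noncomputable section

/-- A morphism with isomorphisms as fibres has them at all field valued points. -/
theorem isIso_snd_of_fibres {W Y : Scheme.{u}} (π : W ⟶ Y) (h : ∀ y : Y, IsIso (π.fiberToSpecResidueField y))
    (K : Type u) [Field K] (y : Spec (CommRingCat.of K) ⟶ Y) : IsIso (pullback.snd π y) := by
  obtain ⟨⟨y₀, φ⟩, rfl⟩ := (Scheme.SpecToEquivOfField K Y).symm.surjective y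
  change IsIso (pullback.snd π (Spec.map φ ≫ Y.fromSpecResidueField y₀))
  rw [← pullbackLeftPullbackSndIso_inv_snd_snd]
  haveI : IsIso (pullback.snd π (Y.fromSpecResidueField y₀)) := h y₀
  infer_instance

/-- A formally unramified injective morphism of finite type with a section is an isomorphism. -/
theorem isIso_of_section {W Y : Scheme.{u}} (π : W ⟶ Y) [LocallyOfFiniteType π] [FormallyUnramified π]
    (e : Y ⟶ W) (he : e ≫ π = 𝟙 Y) (hinj : Function.Injective π) : IsIso π := by
  haveI : Etale (e ≫ π) := by rw [he]; infer_instance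
  haveI : Etale e := Etale.of_comp e π
  haveI : IsSplitMono e := ⟨⟨π, he⟩⟩
  haveI : IsOpenImmersion e := IsOpenImmersion.of_flat_of_mono e
  haveI : Surjective e := ⟨fun w => ⟨π w, hinj (by rw [← Scheme.Hom.comp_apply, he]; rfl)⟩⟩
  haveI : IsIso e := (isIso_iff_isOpenImmersion_and_epi_base e).mpr ⟨‹_›, (TopCat.epi_iff_surjective _).mpr e.surjective⟩
  haveI : IsIso (e ≫ π) := by rw [he]; infer_instance
  exact IsIso.of_isIso_comp_left e π

variable {k : Type u} [Field k] {G X : Over (Spec (CommRingCat.of k))} [GrpObj G] (a : AlgGrp.Action G X)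

theorem lft_psi [LocallyOfFiniteType G.hom] :
    LocallyOfFiniteType (GIT.psi a (𝟙 X)).left := by
  haveI : LocallyOfFiniteType (snd G X).left := by
    rw [Over.snd_left]; infer_instance
  haveI : LocallyOfFiniteType ((GIT.psi a (𝟙 X)).left ≫ (snd X X).left) := by
    rw [← Over.comp_left]
    simpa [GIT.psi] using this
  exact locallyOfFiniteType_of_comp _ (snd X X).left

theorem lft_stP [LocallyOfFiniteType G.hom] :
    LocallyOfFiniteType (stP a (𝟙 X)) := by
  haveI := lft_psi a
  exact MorphismProperty.pullback_snd (P := @LocallyOfFiniteType) _ _ inferInstance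

theorem unitSec_stP : unitSec a (𝟙 X) ≫ stP a (𝟙 X) = 𝟙 X.left := pullback.lift_snd _ _ _

/-- Trivial fibres make the stabiliser scheme trivial. -/
theorem isIso_stP_of_fibres [LocallyOfFiniteType G.hom]
    (h : ∀ x : X.left, IsIso ((stP a (𝟙 X)).fiberToSpecResidueField x)) : IsIso (stP a (𝟙 X)) := by
  haveI := lft_stP a
  haveI : FormallyUnramified (stP a (𝟙 X)) := formallyUnramified_of_fibres _ fun x => by
    haveI := h x; infer_instance
  refine isIso_of_section _ _ (unitSec_stP a) ?_
  intro w₁ w₂ hw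
  obtain ⟨v₁, hv₁⟩ : w₁ ∈ Set.range ((stP a (𝟙 X)).fiberι (stP a (𝟙 X) w₁)) := by
    rw [Scheme.Hom.range_fiberι]; rfl
  obtain ⟨v₂, hv₂⟩ : w₂ ∈ Set.range ((stP a (𝟙 X)).fiberι (stP a (𝟙 X) w₁)) := by
    rw [Scheme.Hom.range_fiberι]; exact hw.symm
  haveI := h (stP a (𝟙 X) w₁)
  have e : v₁ = v₂ := ((stP a (𝟙 X)).fiberToSpecResidueField (stP a (𝟙 X) w₁)).injective
    (Subsingleton.elim (α := PrimeSpectrum _) _ _)
  rw [← hv₁, ← hv₂, e]

/-- A trivial stabiliser scheme makes the action map a monomorphism. -/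
theorem mono_psi (h : IsIso (stP a (𝟙 X))) : Mono (GIT.psi a (𝟙 X)).left := by
  refine ⟨fun {W} p q e => ?_⟩
  let W' : Over (Spec (CommRingCat.of k)) := Over.mk (p ≫ (G ⊗ X).hom)
  let p' : W' ⟶ G ⊗ X := Over.homMk p rfl
  let q' : W' ⟶ G ⊗ X := Over.homMk q (by
    show q ≫ (G ⊗ X).hom = p ≫ (G ⊗ X).hom
    rw [← Over.w (GIT.psi a (𝟙 X)), ← Category.assoc, ← e, Category.assoc])
  have e' : p' ≫ GIT.psi a (𝟙 X) = q' ≫ GIT.psi a (𝟙 X) := Over.OverMorphism.ext e
  suffices p' = q' from congrArg CommaMorphism.left this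
  obtain ⟨g, x, hp'⟩ : ∃ g x, p' = lift g x := ⟨p' ≫ fst G X, p' ≫ snd G X, by ext1 <;> simp⟩
  obtain ⟨g', x', hq'⟩ : ∃ g x, q' = lift g x := ⟨q' ≫ fst G X, q' ≫ snd G X, by ext1 <;> simp⟩
  rw [hp', hq'] at e' ⊢
  have hx := congrArg (· ≫ snd X X) e'
  simp [GIT.psi] at hx
  subst hx
  have ha : lift g x ≫ a.act = lift g' x ≫ a.act := by simpa [GIT.psi] using congrArg (· ≫ fst X X) e'
  have hfix : lift (g'⁻¹ * g) x ≫ a.act = x := by
    rw [Groth.Agent.Lib.GrpSch.act_mul a g'⁻¹ g, ha, ← Groth.Agent.Lib.GrpSch.act_mul a g'⁻¹ g', inv_mul_cancel,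
      Groth.Agent.Lib.GrpSch.act_one]
  -- both elements lie in the stabiliser over the point
  have hz : ∀ (z : W' ⟶ G), lift z x ≫ a.act = x →
      (lift z x).left ≫ (GIT.psi a (𝟙 X)).left = x.left ≫ (lift (𝟙 X) (𝟙 X)).left := by
    intro z hz
    rw [← Over.comp_left, ← Over.comp_left]
    congr 1
    ext1 <;> simp [GIT.psi, hz]
  let s₁ : W'.left ⟶ St a (𝟙 X) := pullback.lift (lift (g'⁻¹ * g) x).left x.left (hz _ hfix)
  let s₂ : W'.left ⟶ St a (𝟙 X) := pullback.lift (lift (1 : W' ⟶ G) x).left x.left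
    (hz _ (Groth.Agent.Lib.GrpSch.act_one a x))
  have hs : s₁ = s₂ := (cancel_mono (stP a (𝟙 X))).mp
    ((pullback.lift_snd _ _ _).trans (pullback.lift_snd _ _ _).symm)
  have h1 : lift (g'⁻¹ * g) x = lift (1 : W' ⟶ G) x := by
    apply Over.OverMorphism.ext
    exact (pullback.lift_fst _ _ _).symm.trans ((congrArg (· ≫ pullback.fst _ _) hs).trans (pullback.lift_fst _ _ _))
  have h2 : g'⁻¹ * g = 1 := by simpa using congrArg (· ≫ fst G X) h1
  rw [inv_mul_eq_one.mp h2]

/-- Set-theoretically free actions are geometrically free in characteristic zero. -/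
theorem isIso_fibre_of_universallyInjective_charZero [CharZero k] [LocallyOfFiniteType G.hom] [IsSeparated G.hom]
    [IsSeparated X.hom] (h : UniversallyInjective (stP a (𝟙 X))) (K : Type u) [Field K]
    (y : Spec (CommRingCat.of K) ⟶ X.left) : IsIso (pullback.snd (stP a (𝟙 X)) y) := by
  let T : Over (Spec (CommRingCat.of k)) := Over.mk (y ≫ X.hom)
  let f : T ⟶ X := Over.homMk y rfl
  haveI hchar : CharZero K := charZero_of_injective_ringHom (Spec.preimage (y ≫ X.hom)).hom.injective
  have hpb : IsPullback (stabMap a f) (stP a f) (stP a (𝟙 X)) y := isPullback_stabMap a f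
  suffices IsIso (stP a f) by
    rw [← hpb.isoPullback_inv_snd]; infer_instance
  haveI := lft_stP a
  haveI : LocallyOfFiniteType (stP a f) := MorphismProperty.of_isPullback (P := @LocallyOfFiniteType) hpb inferInstance
  haveI : UniversallyInjective (stP a f) := MorphismProperty.of_isPullback (P := @UniversallyInjective) hpb h
  let S' : Over (Spec (CommRingCat.of K)) := Over.mk (stP a f)
  letI : GrpObj S' := stabGrpObj a f
  haveI : LocallyOfFiniteType S'.hom := ‹LocallyOfFiniteType (stP a f)›
  have hsm : Smooth S'.hom := Groth.Agent.H63.GrpSmooth.smooth_of_charZero S'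
  haveI : IsReduced S'.left := Groth.Agent.Lib.GrpSch.isReduced_of_smooth_field S'.hom
  haveI : IsSeparated (snd G X).left := by rw [Over.snd_left]; infer_instance
  haveI : IsSeparated ((GIT.psi a (𝟙 X)).left ≫ (snd X X).left) := by
    rw [← Over.comp_left]
    simpa [GIT.psi] using ‹IsSeparated (snd G X).left›
  haveI : IsSeparated (GIT.psi a (𝟙 X)).left := IsSeparated.of_comp _ (snd X X).left
  haveI : IsSeparated (stP a (𝟙 X)) := MorphismProperty.pullback_snd (P := @IsSeparated) _ _ inferInstance
  haveI : IsSeparated (stP a f) := MorphismProperty.of_isPullback (P := @IsSeparated) hpb inferInstance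
  have he : unitSec a f ≫ stP a f = 𝟙 _ := pullback.lift_snd _ _ _
  haveI : IsClosedImmersion (unitSec a f) := by
    haveI : IsClosedImmersion (unitSec a f ≫ stP a f) := by rw [he]; infer_instance
    exact IsClosedImmersion.of_comp _ (stP a f)
  haveI : Surjective (unitSec a f) :=
    ⟨fun w => ⟨stP a f w, (stP a f).injective (by rw [← Scheme.Hom.comp_apply, he]; rfl)⟩⟩
  haveI : IsIso (unitSec a f) := isIso_of_isClosedImmersion_of_surjective (Y := S'.left) _
  haveI : IsIso (unitSec a f ≫ stP a f) := by rw [he]; infer_instance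
  exact IsIso.of_isIso_comp_left (unitSec a f) _

/-- For an etale group the stabiliser scheme is formally unramified. -/
theorem formallyUnramified_stP_of_etale [Etale G.hom] [IsSeparated X.hom] :
    FormallyUnramified (stP a (𝟙 X)) := by
  have e : stP a (𝟙 X) = pullback.fst (GIT.psi a (𝟙 X)).left (lift (𝟙 X) (𝟙 X)).left ≫ (snd G X).left := by
    have h1 : (GIT.psi a (𝟙 X)).left ≫ (snd X X).left = (snd G X).left := by
      rw [← Over.comp_left]; simp [GIT.psi]
    have h2 : (lift (𝟙 X) (𝟙 X)).left ≫ (snd X X).left = 𝟙 _ := by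
      rw [← Over.comp_left, lift_snd]; rfl
    rw [← h1, pullback.condition_assoc, h2, Category.comp_id]
  rw [e]
  haveI : Etale (snd G X).left := by rw [Over.snd_left]; infer_instance
  haveI : IsClosedImmersion (lift (𝟙 X) (𝟙 X)).left := by
    haveI : IsClosedImmersion ((lift (𝟙 X) (𝟙 X)).left ≫ (snd X X).left) := by
      rw [← Over.comp_left, lift_snd]; exact inferInstanceAs (IsClosedImmersion (𝟙 X.left))
    haveI : IsSeparated (snd X X).left := by rw [Over.snd_left]; infer_instance
    exact IsClosedImmersion.of_comp _ (snd X X).left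
  haveI : FormallyUnramified (snd G X).left := inferInstance
  haveI : FormallyUnramified (pullback.fst (GIT.psi a (𝟙 X)).left (lift (𝟙 X) (𝟙 X)).left) :=
    MorphismProperty.pullback_fst (P := @FormallyUnramified) _ _ inferInstance
  exact MorphismProperty.comp_mem _ _ _ ‹_› ‹_›

/-- The two notions of free action. -/
theorem universallyInjective_iff [LocallyOfFiniteType G.hom] [IsSeparated G.hom] [IsSeparated X.hom]
    (hG : CharZero k ∨ Etale G.hom) :
    UniversallyInjective (stP a (𝟙 X)) ↔ ∀ x : X.left, IsIso ((stP a (𝟙 X)).fiberToSpecResidueField x) := by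
  constructor
  · intro h x
    rcases hG with hc | he
    · exact isIso_fibre_of_universallyInjective_charZero a h _ (X.left.fromSpecResidueField x)
    · haveI := formallyUnramified_stP_of_etale a
      haveI := lft_stP a
      haveI : IsIso (stP a (𝟙 X)) := isIso_of_section _ _ (unitSec_stP a) (stP a (𝟙 X)).injective
      exact inferInstanceAs (IsIso (pullback.snd (stP a (𝟙 X)) (X.left.fromSpecResidueField x)))
  · intro h
    haveI := isIso_stP_of_fibres a h
    infer_instance

/-- A proper action with trivial stabilisers is free. -/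
theorem isClosedImmersion_psi [LocallyOfFiniteType G.hom] (hp : IsProper (GIT.psi a (𝟙 X)).left)
    (h : ∀ x : X.left, IsIso ((stP a (𝟙 X)).fiberToSpecResidueField x)) :
    IsClosedImmersion (GIT.psi a (𝟙 X)).left :=
  ((IsClosedImmersion.iff_isProper_and_mono (f := (GIT.psi a (𝟙 X)).left))).mpr ⟨hp, mono_psi a (isIso_stP_of_fibres a h)⟩

end

end Groth.Agent.H60.FreeAct
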