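import Groth.Agent.H60.ProperAct.StabFin
import Mathlib.CategoryTheory.Monoidal.Cartesian.Grp

/-!
The stabiliser of a point as a group scheme over the source of the point.
-/

set_option autoImplicit false
set_option linter.style.haveILetI false

universe u

open CategoryTheory Limits MonoidalCategory CartesianMonoidalCategory MonObj AlgebraicGeometry Opposite
open Groth.Agent.Lib.GrpSch Groth.Agent.Lib.ActSep
open Groth.Agent.H60.ProperAct

namespace Groth.Agent.H60.FreeAct

noncomputable section

variable {S : Scheme.{u}} {G X T : Over S} [GrpObj G] (a : AlgGrp.Action G X) (f : T ⟶ X)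

/-- An object over `T`, viewed over `S`. -/
abbrev dn (Z : Over T.left) : Over S := (Over.map T.hom).obj Z

/-- The structure map to `T`. -/
def strT (Z : Over T.left) : dn Z ⟶ T := Over.homMk Z.hom rfl

theorem map_strT {Z Z' : Over T.left} (h : Z' ⟶ Z) : (Over.map T.hom).map h ≫ strT Z = strT Z' := by
  apply Over.OverMorphism.ext
  exact Over.w h

/-- The group elements fixing the point. -/
def stabSub (Z : Over T.left) : Subgroup (dn Z ⟶ G) where
  carrier := {p | lift p (strT Z ≫ f) ≫ a.act = strT Z ≫ f}
  one_mem' := Groth.Agent.Lib.GrpSch.act_one a _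
  mul_mem' {p q} hp hq := by
    show lift (p * q) (strT Z ≫ f) ≫ a.act = strT Z ≫ f
    rw [Groth.Agent.Lib.GrpSch.act_mul a p q, hq, hp]
  inv_mem' {p} hp := by
    show lift p⁻¹ (strT Z ≫ f) ≫ a.act = strT Z ≫ f
    conv_lhs => rw [← hp]
    rw [← Groth.Agent.Lib.GrpSch.act_mul a p⁻¹ p, inv_mul_cancel, Groth.Agent.Lib.GrpSch.act_one]

theorem mem_stabSub_map {Z Z' : Over T.left} (h : Z' ⟶ Z) {p : dn Z ⟶ G} (hp : p ∈ stabSub a f Z) :
    (Over.map T.hom).map h ≫ p ∈ stabSub a f Z' := by
  have hp' : lift p (strT Z ≫ f) ≫ a.act = strT Z ≫ f := hp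
  show lift ((Over.map T.hom).map h ≫ p) (strT Z' ≫ f) ≫ a.act = strT Z' ≫ f
  rw [← map_strT h, Category.assoc, ← comp_lift, Category.assoc, hp']

/-- The functor of stabilising elements. -/
def stabFunctor : (Over T.left)ᵒᵖ ⥤ GrpCat.{u} where
  obj Z := GrpCat.of (stabSub a f Z.unop)
  map {Z Z'} h := GrpCat.ofHom (MonoidHom.mk' (fun p => ⟨_, mem_stabSub_map a f h.unop p.2⟩)
    (fun p q => Subtype.ext (MonObj.comp_mul ((Over.map T.hom).map h.unop) p.1 q.1)))
  map_id Z := by
    refine GrpCat.hom_ext (MonoidHom.ext fun p => Subtype.ext ?_)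
    show (Over.map T.hom).map (𝟙 Z.unop) ≫ p.1 = p.1
    rw [CategoryTheory.Functor.map_id, Category.id_comp]
  map_comp {Z Z' Z''} h h' := by
    refine GrpCat.hom_ext (MonoidHom.ext fun p => Subtype.ext ?_)
    show (Over.map T.hom).map (h'.unop ≫ h.unop) ≫ p.1 = _
    rw [CategoryTheory.Functor.map_comp, Category.assoc]
    rfl

/-- A point of the stabiliser gives a point of `G ⊗ T`. -/
def upT {Z : Over T.left} (h : Z ⟶ Over.mk (stP a f)) : dn Z ⟶ G ⊗ T :=
  Over.homMk (h.left ≫ pullback.fst (GIT.psi a f).left (lift f (𝟙 T)).left) (by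
    have := pullback.condition (f := (GIT.psi a f).left) (g := (lift f (𝟙 T)).left)
    rw [Category.assoc, ← Over.w (GIT.psi a f), ← Category.assoc (pullback.fst _ _), this, Category.assoc,
      Over.w (lift f (𝟙 T)), ← Category.assoc]
    show (h.left ≫ stP a f) ≫ T.hom = Z.hom ≫ T.hom
    rw [show h.left ≫ stP a f = Z.hom from Over.w h])

theorem upT_psi {Z : Over T.left} (h : Z ⟶ Over.mk (stP a f)) :
    upT a f h ≫ GIT.psi a f = strT Z ≫ lift f (𝟙 T) := by
  apply Over.OverMorphism.ext
  show (h.left ≫ _) ≫ (GIT.psi a f).left = Z.hom ≫ (lift f (𝟙 T)).left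
  rw [Category.assoc, pullback.condition, ← Category.assoc, show h.left ≫ stP a f = Z.hom from Over.w h]

theorem upT_snd {Z : Over T.left} (h : Z ⟶ Over.mk (stP a f)) : upT a f h ≫ snd G T = strT Z := by
  have := congrArg (· ≫ snd X T) (upT_psi a f h)
  simpa [GIT.psi] using this

theorem upT_mem {Z : Over T.left} (h : Z ⟶ Over.mk (stP a f)) : upT a f h ≫ fst G T ∈ stabSub a f Z := by
  show lift (upT a f h ≫ fst G T) (strT Z ≫ f) ≫ a.act = strT Z ≫ f
  have := congrArg (· ≫ fst X T) (upT_psi a f h)
  simp only [GIT.psi, Category.assoc, lift_fst, Category.comp_id] at this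
  conv_rhs => rw [← this, ← Category.assoc]
  rw [← upT_snd a f h, Category.assoc (upT a f h) (snd G T) f, ← comp_lift, Category.assoc, Category.assoc]
  congr 1

/-- A stabilising element gives a point of the stabiliser. -/
def downT {Z : Over T.left} (p : stabSub a f Z) : Z ⟶ Over.mk (stP a f) :=
  Over.homMk (pullback.lift (lift p.1 (strT Z)).left Z.hom (by
    show (lift p.1 (strT Z)).left ≫ (GIT.psi a f).left = (strT Z).left ≫ (lift f (𝟙 T)).left
    rw [← Over.comp_left, ← Over.comp_left]
    congr 1
    have hp : lift p.1 (strT Z ≫ f) ≫ a.act = strT Z ≫ f := p.2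
    ext1 <;> simp [GIT.psi, hp])) (pullback.lift_snd _ _ _)

/-- The stabiliser represents the functor of stabilising elements. -/
def stabRep : (stabFunctor a f ⋙ forget _).RepresentableBy (Over.mk (stP a f)) where
  homEquiv {Z} :=
    { toFun := fun h => (⟨upT a f h ≫ fst G T, upT_mem a f h⟩ : stabSub a f Z)
      invFun := fun p => downT a f p
      left_inv := fun h => by
        apply Over.OverMorphism.ext
        refine pullback.hom_ext ?_ ?_
        · show pullback.lift _ _ _ ≫ pullback.fst _ _ = h.left ≫ pullback.fst _ _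
          rw [pullback.lift_fst]
          show (lift (upT a f h ≫ fst G T) (strT Z)).left = (upT a f h).left
          rw [← upT_snd a f h, ← comp_lift, lift_fst_snd, Category.comp_id]
        · show pullback.lift _ _ _ ≫ pullback.snd _ _ = h.left ≫ pullback.snd _ _
          rw [pullback.lift_snd]
          exact (Over.w h).symm
      right_inv := fun p => Subtype.ext (by
        have e : upT a f (downT a f p) = lift p.1 (strT Z) := by
          apply Over.OverMorphism.ext
          exact pullback.lift_fst _ _ _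
        show upT a f (downT a f p) ≫ fst G T = p.1
        rw [e, lift_fst]) }
  homEquiv_comp {Z Z'} h g := Subtype.ext (by
    show upT a f (h ≫ g) ≫ fst G T = (Over.map T.hom).map h ≫ upT a f g ≫ fst G T
    rw [← Category.assoc]
    congr 1)

/-- The stabiliser as a group scheme over the source of the point. -/
@[reducible] def stabGrpObj : GrpObj (Over.mk (stP a f)) :=
  GrpObj.ofRepresentableBy _ (stabFunctor a f) (stabRep a f)

end

end Groth.Agent.H60.FreeAct
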